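import Groth.Prelude.Def_RelSpec2
import Groth.Agent.RelSpecX.Spec
import Groth.Agent.Proj16.RelExist
import Mathlib.RingTheory.GradedAlgebra.Radical

/-!
Pointed cones in relative spectra of graded algebras.
-/

universe u

open CategoryTheory CategoryTheory.Limits AlgebraicGeometry TopologicalSpace Opposite
open scoped HomogeneousIdeal

namespace Groth.Agent.ConeX

variable {A B σ τ : Type u} [CommRing A] [CommRing B] [SetLike σ A] [AddSubgroupClass σ A]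
  [SetLike τ B] [AddSubgroupClass τ B] {𝒜 : ℕ → σ} [GradedRing 𝒜] {ℬ : ℕ → τ} [GradedRing ℬ]

lemma map_mem_irrelevant (f : 𝒜 →+*ᵍ ℬ) {a : A}
    (ha : a ∈ (𝒜₊).toIdeal) : f a ∈ (ℬ₊).toIdeal := by
  change GradedRing.proj ℬ 0 (f a) = 0
  have h0 : (DirectSum.decompose 𝒜 a 0 : A) = 0 := ha
  rw [GradedRing.proj_apply, ← f.map_directSumDecompose, h0, map_zero]

/-- An everywhere defined graded map: a prime containing the image of the irrelevant ideal contains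
the irrelevant ideal. -/
lemma domOpen_eq_top_iff (f : 𝒜 →+*ᵍ ℬ) :
    RelCone.domOpen f = ⊤ ↔
      ∀ q : PrimeSpectrum B, f '' ((𝒜₊).toIdeal : Set A) ⊆ q.asIdeal → (ℬ₊).toIdeal ≤ q.asIdeal := by
  classical
  constructor
  · intro h q hq b hb
    by_contra hbq
    let c := q.asIdeal.homogeneousCore ℬ
    have hcq : c.toIdeal ≤ q.asIdeal := Ideal.toIdeal_homogeneousCore_le ℬ _
    have hc : c.toIdeal.IsPrime := Ideal.IsPrime.homogeneousCore q.2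
    let x : Proj ℬ := (⟨c, hc, fun hle => hbq (hcq (hle hb))⟩ : ProjectiveSpectrum ℬ)
    obtain ⟨a, ha, hax⟩ := (RelCone.mem_domOpen f x).mp (h.ge (Set.mem_univ x))
    refine hax ?_
    rw [← DirectSum.sum_support_decompose 𝒜 a, map_sum]
    refine Ideal.sum_mem _ fun i hi => ?_
    refine Ideal.mem_homogeneousCore_of_homogeneous_of_mem ⟨i, f.map_mem (SetLike.coe_mem _)⟩ ?_
    exact hq ⟨_, (HomogeneousIdeal.irrelevant 𝒜).2 i ha, rfl⟩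
  · intro h
    refine eq_top_iff.mpr fun (x : ProjectiveSpectrum ℬ) _ => ?_
    by_contra hx
    refine x.not_irrelevant_le (h ⟨x.asHomogeneousIdeal.toIdeal, x.isPrime⟩ ?_)
    rintro _ ⟨a, ha, rfl⟩
    by_contra hax
    exact hx ((RelCone.mem_domOpen f x).mpr ⟨a, ha, hax⟩)

/-- The vertex complement is stable under a map whose target irrelevant ideal is generated by the image. -/
lemma mem_vertexCompl {R : CommRingCat.{u}} {ℛ : ℕ → AddSubgroup R} [GradedRing ℛ] (p : Spec R) :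
    p ∈ RelCone.vertexCompl ℛ ↔ ∃ a ∈ (ℛ₊).toIdeal, a ∉ p.asIdeal := by
  show ¬ ((ℛ₊).toIdeal : Set R) ⊆ p.asIdeal ↔ _
  exact Set.not_subset

variable {S : Scheme.{u}} (𝒮 : RelProj.QCGrAlg S)

lemma vertexCompl_res {U W : S.Opens} (hU : IsAffineOpen U) (hW : IsAffineOpen W) (i : W ≤ U)
    (h : ∃ r : Γ(S, U), S.basicOpen r = W) (w : Spec (𝒮.presheaf.obj (op W))) :
    Spec.map (𝒮.presheaf.map (homOfLE i).op) w ∈ RelCone.vertexCompl (𝒮.deg U hU) ↔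
      w ∈ RelCone.vertexCompl (𝒮.deg W hW) := by
  rw [mem_vertexCompl, mem_vertexCompl]
  constructor
  · rintro ⟨a, ha, haw⟩
    exact ⟨_, map_mem_irrelevant (𝒮.res hU hW i) ha, haw⟩
  · rintro ⟨a, ha, haw⟩
    by_contra hne
    push Not at hne
    refine haw ?_
    have h1 : ((𝒮.deg W hW)₊).toIdeal ≤ w.asIdeal :=
      le_trans (show ((𝒮.deg W hW)₊).toIdeal ≤ _ from Proj16.irrelevant_le_res 𝒮 hU hW i h)
        (Ideal.map_le_iff_le_comap.mpr fun b hb => hne b hb)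
    exact h1 ha

lemma mem_pointedCone (U : S.Opens) (hU : IsAffineOpen U) (z : Spec (𝒮.presheaf.obj (op U))) :
    𝒮.toQCAlg.ι U hU z ∈ RelCone.pointedCone 𝒮 ↔ z ∈ RelCone.vertexCompl (𝒮.deg U hU) := by
  refine ⟨fun h => ?_, fun h => Opens.mem_iSup.mpr ⟨⟨U, hU⟩, z, h, rfl⟩⟩
  obtain ⟨⟨V, hV⟩, z', hz', e⟩ := Opens.mem_iSup.mp h
  have hzU : 𝒮.toQCAlg.π (𝒮.toQCAlg.ι U hU z) ∈ U :=
    (𝒮.toQCAlg.π_preimage U hU).ge ⟨z, rfl⟩
  have hzV : 𝒮.toQCAlg.π (𝒮.toQCAlg.ι U hU z) ∈ V :=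
    (𝒮.toQCAlg.π_preimage V hV).ge ⟨z', e⟩
  obtain ⟨r, s, hrs, hxr⟩ := exists_basicOpen_le_affine_inter hU hV _ ⟨hzU, hzV⟩
  set W := S.basicOpen r
  have hW : IsAffineOpen W := hU.basicOpen r
  have hWU : W ≤ U := S.basicOpen_le r
  have hWV : W ≤ V := hrs.le.trans (S.basicOpen_le s)
  obtain ⟨w, hw⟩ : 𝒮.toQCAlg.ι U hU z ∈ (𝒮.toQCAlg.ι W hW).opensRange :=
    (𝒮.toQCAlg.π_preimage W hW).le hxr
  have eU : Spec.map (𝒮.presheaf.map (homOfLE hWU).op) w = z := by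
    apply (𝒮.toQCAlg.ι U hU).isOpenEmbedding.injective
    rw [← Scheme.Hom.comp_apply, RelSpecX.ι_res_le 𝒮.toQCAlg hU hW hWU, hw]
  have eV : Spec.map (𝒮.presheaf.map (homOfLE hWV).op) w = z' := by
    apply (𝒮.toQCAlg.ι V hV).isOpenEmbedding.injective
    rw [← Scheme.Hom.comp_apply, RelSpecX.ι_res_le 𝒮.toQCAlg hV hW hWV, hw]
    exact e.symm
  rw [← eU, vertexCompl_res 𝒮 hU hW hWU ⟨r, rfl⟩]
  rwa [← eV, SetLike.mem_coe, vertexCompl_res 𝒮 hV hW hWV ⟨s, hrs.symm⟩] at hz'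

variable {S' : Scheme.{u}} {q : S' ⟶ S} {𝒮' : RelProj.QCGrAlg S'}
  {u : 𝒮.presheaf ⟶ q.base _* 𝒮'.presheaf}
  (φ : ∀ (U : S.Opens) (hU : IsAffineOpen U) (U' : S'.Opens) (hU' : IsAffineOpen U') (_ : U' ≤ q ⁻¹ᵁ U),
      𝒮.deg U hU →+*ᵍ 𝒮'.deg U' hU')
  (hφ : ∀ (U : S.Opens) (hU : IsAffineOpen U) (U' : S'.Opens) (hU' : IsAffineOpen U') (hle : U' ≤ q ⁻¹ᵁ U),
      (φ U hU U' hU' hle).toRingHom =
        ((u.app (op U) : 𝒮.presheaf.obj (op U) ⟶ 𝒮'.presheaf.obj (op (q ⁻¹ᵁ U))) ≫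
          𝒮'.presheaf.map (homOfLE hle).op).hom)
  {Φ : 𝒮'.toQCAlg.spec ⟶ 𝒮.toQCAlg.spec} (hΦ : RelSpecX.IsChartMap 𝒮.toQCAlg 𝒮'.toQCAlg u Φ)

include hφ hΦ

lemma map_chart_mem (U : S.Opens) (hU : IsAffineOpen U) (U' : S'.Opens) (hU' : IsAffineOpen U')
    (hle : U' ≤ q ⁻¹ᵁ U) (z : Spec (𝒮'.presheaf.obj (op U'))) :
    Φ (𝒮'.toQCAlg.ι U' hU' z) ∈ RelCone.pointedCone 𝒮 ↔
      ∃ a ∈ ((𝒮.deg U hU)₊).toIdeal, φ U hU U' hU' hle a ∉ z.asIdeal := by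
  rw [← Scheme.Hom.comp_apply, hΦ U hU U' hU' hle, Scheme.Hom.comp_apply, mem_pointedCone,
    mem_vertexCompl]
  refine exists_congr fun a => and_congr_right fun _ => not_congr ?_
  rw [show φ U hU U' hU' hle a = (φ U hU U' hU' hle).toRingHom a from rfl, hφ]
  rfl

lemma exists_chart (x : 𝒮'.toQCAlg.spec) :
    ∃ (U : S.Opens) (_ : IsAffineOpen U) (U' : S'.Opens) (hU' : IsAffineOpen U')
      (_ : U' ≤ q ⁻¹ᵁ U) (z : Spec (𝒮'.presheaf.obj (op U'))), 𝒮'.toQCAlg.ι U' hU' z = x := by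
  obtain ⟨U, hU, U', hU', hy, hle⟩ := RelSpecX.exists_pair q (𝒮'.toQCAlg.π x)
  obtain ⟨z, hz⟩ : x ∈ (𝒮'.toQCAlg.ι U' hU').opensRange := (𝒮'.toQCAlg.π_preimage U' hU').le hy
  exact ⟨U, hU, U', hU', hle, z, hz⟩

include φ

lemma preimage_pointedCone_le : Φ ⁻¹ᵁ RelCone.pointedCone 𝒮 ≤ RelCone.pointedCone 𝒮' := by
  intro x hx
  obtain ⟨U, hU, U', hU', hle, z, rfl⟩ := exists_chart 𝒮 φ hφ hΦ x
  obtain ⟨a, ha, haz⟩ := (map_chart_mem 𝒮 φ hφ hΦ U hU U' hU' hle z).mp hx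
  exact (mem_pointedCone 𝒮' U' hU' z).mpr
    ((mem_vertexCompl z).mpr ⟨_, map_mem_irrelevant _ ha, haz⟩)

lemma preimage_pointedCone_eq_iff :
    (∀ (U : S.Opens) (hU : IsAffineOpen U) (U' : S'.Opens) (hU' : IsAffineOpen U') (hle : U' ≤ q ⁻¹ᵁ U),
        RelCone.domOpen (φ U hU U' hU' hle) = ⊤) ↔
      Φ ⁻¹ᵁ RelCone.pointedCone 𝒮 = RelCone.pointedCone 𝒮' := by
  refine ⟨fun h => le_antisymm (preimage_pointedCone_le 𝒮 φ hφ hΦ) fun x hx => ?_, fun h => ?_⟩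
  · obtain ⟨U, hU, U', hU', hle, z, rfl⟩ := exists_chart 𝒮 φ hφ hΦ x
    obtain ⟨b, hb, hbz⟩ := (mem_vertexCompl z).mp ((mem_pointedCone 𝒮' U' hU' z).mp hx)
    refine (map_chart_mem 𝒮 φ hφ hΦ U hU U' hU' hle z).mpr ?_
    by_contra hne
    push Not at hne
    exact hbz ((domOpen_eq_top_iff _).mp (h U hU U' hU' hle) z
      (by rintro _ ⟨a, ha, rfl⟩; exact hne a ha) hb)
  · intro U hU U' hU' hle
    refine (domOpen_eq_top_iff _).mpr fun z hz b hb => ?_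
    by_contra hbz
    have h2 : 𝒮'.toQCAlg.ι U' hU' z ∈ Φ ⁻¹ᵁ RelCone.pointedCone 𝒮 :=
      h.ge ((mem_pointedCone 𝒮' U' hU' z).mpr ((mem_vertexCompl (z : Spec _)).mpr ⟨b, hb, hbz⟩))
    obtain ⟨a, ha, haz⟩ := (map_chart_mem 𝒮 φ hφ hΦ U hU U' hU' hle z).mp h2
    exact haz (hz ⟨a, ha, rfl⟩)

end Groth.Agent.ConeX
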