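import Groth.Agent.ConeX.Pointed

/-!
The vertex section of an affine cone.
-/

universe u

open CategoryTheory CategoryTheory.Limits AlgebraicGeometry TopologicalSpace Opposite
open scoped HomogeneousIdeal

namespace Groth.Agent.ConeX

variable {Y : Scheme.{u}} (𝒮 : RelProj.QCGrAlg Y) (aug : 𝒮.toQCAlg ⟶ RelSpec.QCAlg.unit Y)

lemma exists_vertex : ∃ ε : Y ⟶ 𝒮.toQCAlg.spec, RelCone.IsVertex 𝒮 aug ε := by
  let ω : 𝒮.toQCAlg.π.base _* 𝒮.toQCAlg.spec.presheaf ⟶ AffAlg.alg (𝟙 Y) :=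
    𝒮.toQCAlg.gammaMap ≫ aug.hom
  have hω : 𝒮.toQCAlg.π.c ≫ ω = (𝟙 Y : Y ⟶ Y).c := by
    refine (Category.assoc _ _ _).symm.trans ?_
    rw [𝒮.toQCAlg.π_c_gammaMap]
    exact aug.comm
  let Ω : AffAlg.algHoms 𝒮.toQCAlg.π (𝟙 Y) := ⟨ω, hω⟩
  refine ⟨RelSpecX.ofAlgHom 𝒮.toQCAlg.π (𝟙 Y) Ω, RelSpecX.ofAlgHom_comp _ _ _, fun U hU => ?_⟩
  set ε := RelSpecX.ofAlgHom 𝒮.toQCAlg.π (𝟙 Y) Ω
  have hv : U ≤ ε ⁻¹ᵁ (𝒮.toQCAlg.π ⁻¹ᵁ U) :=
    (RelSpecX.preimage_eq 𝒮.toQCAlg.π (𝟙 Y) ε (RelSpecX.ofAlgHom_comp _ _ _) U).le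
  have e : ⊤ ≤ (hU.fromSpec ≫ ε) ⁻¹ᵁ (𝒮.toQCAlg.π ⁻¹ᵁ U) :=
    hU.fromSpec_preimage_self.ge.trans (hU.fromSpec.preimage_mono hv)
  have hfs : hU.fromSpec.appLE U ⊤ hU.fromSpec_preimage_self.ge ≫ (Scheme.ΓSpecIso _).hom = 𝟙 _ := by
    rw [Scheme.Hom.appLE, hU.fromSpec_app_self]
    simp only [Category.assoc, ← Functor.map_comp_assoc]
    erw [(Spec Γ(Y, U)).presheaf.map_id]
    simp
  rw [RelSpecX.spec_hom_eq (hU.fromSpec ≫ ε) (hU.preimage 𝒮.toQCAlg.π) e,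
    RelSpecX.ι_eq 𝒮.toQCAlg U hU, ← Spec.map_comp_assoc]
  refine congrArg (fun m => Spec.map m ≫ (hU.preimage 𝒮.toQCAlg.π).fromSpec) ?_
  rw [← Scheme.Hom.appLE_comp_appLE hU.fromSpec ε _ _ _ hv hU.fromSpec_preimage_self.ge,
    Category.assoc, hfs, Category.comp_id]
  refine (RelSpecX.appLE_ofAlgHom 𝒮.toQCAlg.π (𝟙 Y) Ω ⟨U, hU⟩ hv).trans ?_
  show 𝒮.toQCAlg.gammaMap.app (op U) ≫ aug.hom.app (op U) = _
  rw [𝒮.toQCAlg.gammaMap_app U hU]

lemma vertex_unique {ε ε' : Y ⟶ 𝒮.toQCAlg.spec} (h : RelCone.IsVertex 𝒮 aug ε)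
    (h' : RelCone.IsVertex 𝒮 aug ε') : ε = ε' := by
  refine Scheme.Cover.hom_ext (Y.openCoverOfIsOpenCover _ (iSup_affineOpens_eq_top Y)) _ _
    fun U => ?_
  show U.1.ι ≫ ε = U.1.ι ≫ ε'
  rw [← U.2.toSpecΓ_fromSpec, Category.assoc, Category.assoc, h.chart U.1 U.2, h'.chart U.1 U.2]

lemma isClosedImmersion_vertex {ε : Y ⟶ 𝒮.toQCAlg.spec} (h : RelCone.IsVertex 𝒮 aug ε) :
    IsClosedImmersion ε := by
  have : IsClosedImmersion (ε ≫ 𝒮.toQCAlg.π) := h.comp_π ▸ inferInstance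
  exact IsClosedImmersion.of_comp ε 𝒮.toQCAlg.π

lemma ker_aug (h0 : RelCone.StrZeroBij 𝒮) (haug : RelCone.IsAugmentation 𝒮 aug) (U : Y.Opens)
    (hU : IsAffineOpen U) :
    Function.Surjective (aug.hom.app (op U)).hom ∧
      RingHom.ker (aug.hom.app (op U)).hom = ((𝒮.deg U hU)₊).toIdeal := by
  classical
  have hstr : ∀ r : Γ(Y, U), (aug.hom.app (op U)).hom ((𝒮.str.app (op U)).hom r) = r := fun r =>
    congr($(NatTrans.congr_app aug.comm (op U)).hom r)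
  refine ⟨fun r => ⟨_, hstr r⟩, le_antisymm (fun x hx => ?_) ?_⟩
  · have hdec : ∀ y ∈ ((𝒮.deg U hU)₊).toIdeal, (aug.hom.app (op U)).hom y = 0 := fun y hy => by
      rw [← DirectSum.sum_support_decompose (𝒮.deg U hU) y]
      refine (map_sum _ _ _).trans (Finset.sum_eq_zero fun i _ => ?_)
      cases i with
      | zero => rw [show (DirectSum.decompose (𝒮.deg U hU) y 0 : 𝒮.presheaf.obj (op U)) = 0 from hy]
                exact map_zero _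
      | succ d => exact haug U hU d _ (SetLike.coe_mem _)
    set x₀ := DirectSum.decompose (𝒮.deg U hU) x 0
    obtain ⟨r, hr⟩ := (h0 U hU).2 x₀
    have hr' : (𝒮.str.app (op U)).hom r = (x₀ : 𝒮.presheaf.obj (op U)) := congrArg Subtype.val hr
    have h1 : (x - (x₀ : 𝒮.presheaf.obj (op U))) ∈ ((𝒮.deg U hU)₊).toIdeal := by
      change GradedRing.proj (𝒮.deg U hU) 0 _ = 0
      rw [map_sub, GradedRing.proj_apply, GradedRing.proj_apply,
        DirectSum.decompose_of_mem_same _ x₀.2, sub_self]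
    have h2 := hdec _ h1
    rw [map_sub, show (aug.hom.app (op U)).hom x = 0 from hx, zero_sub, neg_eq_zero, ← hr'] at h2
    rw [show r = 0 from (hstr r).symm.trans h2, map_zero] at hr'
    show GradedRing.proj (𝒮.deg U hU) 0 x = 0
    rw [GradedRing.proj_apply]
    exact hr'.symm
  · intro y hy
    rw [RingHom.mem_ker, ← DirectSum.sum_support_decompose (𝒮.deg U hU) y]
    refine (map_sum _ _ _).trans (Finset.sum_eq_zero fun i _ => ?_)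
    cases i with
    | zero => rw [show (DirectSum.decompose (𝒮.deg U hU) y 0 : 𝒮.presheaf.obj (op U)) = 0 from hy]
              exact map_zero _
    | succ d => exact haug U hU d _ (SetLike.coe_mem _)

lemma pointedCone_eq (h0 : RelCone.StrZeroBij 𝒮) (haug : RelCone.IsAugmentation 𝒮 aug)
    {ε : Y ⟶ 𝒮.toQCAlg.spec} (hε : RelCone.IsVertex 𝒮 aug ε) :
    ((RelCone.pointedCone 𝒮 : 𝒮.toQCAlg.spec.Opens) : Set 𝒮.toQCAlg.spec) = (Set.range ε)ᶜ := by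
  ext x
  obtain ⟨_, ⟨U, hU, rfl⟩, hxU, -⟩ := Y.isBasis_affineOpens.exists_subset_of_mem_open
    (Set.mem_univ (𝒮.toQCAlg.π x)) isOpen_univ
  obtain ⟨z, rfl⟩ : x ∈ (𝒮.toQCAlg.ι U hU).opensRange := (𝒮.toQCAlg.π_preimage U hU).le hxU
  obtain ⟨hsurj, hker⟩ := ker_aug 𝒮 aug h0 haug U hU
  have hrange : 𝒮.toQCAlg.ι U hU z ∈ Set.range ε ↔
      z ∈ PrimeSpectrum.zeroLocus (RingHom.ker (aug.hom.app (op U)).hom : Set _) := by
    rw [← range_comap_of_surjective _ _ hsurj]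
    constructor
    · rintro ⟨y, hy⟩
      have hyU : y ∈ U := by
        have := congrArg 𝒮.toQCAlg.π hy
        rw [← Scheme.Hom.comp_apply, hε.comp_π] at this
        rw [show y = 𝒮.toQCAlg.π (𝒮.toQCAlg.ι U hU z) from this]
        exact hxU
      obtain ⟨p, rfl⟩ := hU.range_fromSpec.ge hyU
      refine ⟨p, (𝒮.toQCAlg.ι U hU).isOpenEmbedding.injective ?_⟩
      rw [← hy, ← Scheme.Hom.comp_apply, hε.chart U hU]
      rfl
    · rintro ⟨p, rfl⟩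
      refine ⟨hU.fromSpec p, ?_⟩
      rw [← Scheme.Hom.comp_apply, hε.chart U hU]
      rfl
  rw [Set.mem_compl_iff, hrange, hker, SetLike.mem_coe, mem_pointedCone]
  rfl

end Groth.Agent.ConeX
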